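import Mathlib.Algebra.DirectSum.Basic
import Mathlib.Data.DFinsupp.BigOperators
import Mathlib.Tactic

/-!
# Direct sums of complexes, elementwise

* `IsDec j` : the maps `j n : X n →+ Y` present `Y` as the direct sum of the `X n`;
* `IsDec.pi` : finite products;
* `nonempty_equiv` : the cohomology of a complex which is termwise the direct sum of complexes is the direct sum
  of the cohomologies.
-/

set_option autoImplicit false

open DirectSum

namespace K38.DSumH

variable {N : Type*} [DecidableEq N]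

section Basic

variable {X X' : N → Type*} [∀ n, AddCommGroup (X n)] [∀ n, AddCommGroup (X' n)] {Y : Type*} [AddCommGroup Y]

/-- The group `Y` is the direct sum of the `X n` through the maps `j n`. -/
def IsDec (j : ∀ n, X n →+ Y) : Prop := Function.Bijective (DirectSum.toAddMonoid j)

theorem toAddMonoid_map (g : ∀ n, X n →+ X' n) (j : ∀ n, X' n →+ Y) (z : ⨁ n, X n) :
    DirectSum.toAddMonoid j (DirectSum.map g z) = DirectSum.toAddMonoid (fun n => (j n).comp (g n)) z := by
  have : (DirectSum.toAddMonoid j).comp (DirectSum.map g) =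
      DirectSum.toAddMonoid (fun n => (j n).comp (g n)) := by
    refine DirectSum.addHom_ext fun n x => ?_
    rw [AddMonoidHom.comp_apply, DirectSum.map_of, DirectSum.toAddMonoid_of, DirectSum.toAddMonoid_of]
    rfl
  exact DFunLike.congr_fun this z

theorem comp_toAddMonoid {Z : Type*} [AddCommGroup Z] (j : ∀ n, X n →+ Y) (g : Y →+ Z) (z : ⨁ n, X n) :
    g (DirectSum.toAddMonoid j z) = DirectSum.toAddMonoid (fun n => g.comp (j n)) z := by
  have : g.comp (DirectSum.toAddMonoid j) = DirectSum.toAddMonoid (fun n => g.comp (j n)) := by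
    refine DirectSum.addHom_ext fun n x => ?_
    rw [AddMonoidHom.comp_apply, DirectSum.toAddMonoid_of, DirectSum.toAddMonoid_of]
    rfl
  exact DFunLike.congr_fun this z

end Basic

section Pi

variable {T : Type*} {X : T → N → Type*} [∀ t n, AddCommGroup (X t n)] {Y : T → Type*}
  [∀ t, AddCommGroup (Y t)] (j : ∀ t n, X t n →+ Y t)

/-- The product of the maps `j t n`. -/
def piHom (n : N) : (∀ t, X t n) →+ ∀ t, Y t where
  toFun x t := j t n (x t)
  map_zero' := by funext t; exact map_zero _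
  map_add' x y := by funext t; exact map_add _ _ _

omit [DecidableEq N] in
theorem piHom_apply (n : N) (x : ∀ t, X t n) (t : T) : piHom j n x t = j t n (x t) := rfl

theorem toAddMonoid_piHom (z : ⨁ n, ∀ t, X t n) (t : T) :
    DirectSum.toAddMonoid (piHom j) z t =
      DirectSum.toAddMonoid (j t) (DirectSum.map (fun n => Pi.evalAddMonoidHom (fun t => X t n) t) z) := by
  rw [toAddMonoid_map]
  exact comp_toAddMonoid (piHom j) (Pi.evalAddMonoidHom Y t) z

theorem isDec_pi [Fintype T] (h : ∀ t, IsDec (j t)) : IsDec (piHom j) := by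
  classical
  constructor
  · rw [injective_iff_map_eq_zero]
    intro z hz
    have key : ∀ t, DirectSum.map (fun n => Pi.evalAddMonoidHom (fun t => X t n) t) z = 0 := by
      intro t
      apply (h t).1
      rw [← toAddMonoid_piHom, hz, map_zero]
      rfl
    refine DFinsupp.ext fun n => ?_
    funext t
    have := DFunLike.congr_fun (key t) n
    rw [DirectSum.map_apply] at this
    exact this
  · intro y
    choose z hz using fun t => (h t).2 (y t)
    refine ⟨∑ t, DirectSum.map (fun n => AddMonoidHom.single (fun t => X t n) t) (z t), ?_⟩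
    rw [map_sum]
    funext t
    rw [Finset.sum_apply, Finset.sum_eq_single t]
    · rw [toAddMonoid_piHom, ← hz t]
      congr 1
      refine DFinsupp.ext fun n => ?_
      rw [DirectSum.map_apply, DirectSum.map_apply]
      exact Pi.single_eq_same (M := fun t => X t n) t (z t n)
    · intro t' _ ht'
      rw [toAddMonoid_piHom]
      have : DirectSum.map (fun n => Pi.evalAddMonoidHom (fun t => X t n) t)
          (DirectSum.map (fun n => AddMonoidHom.single (fun t => X t n) t') (z t')) = 0 := by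
        refine DFinsupp.ext fun n => ?_
        rw [DirectSum.map_apply, DirectSum.map_apply]
        exact Pi.single_eq_of_ne (M := fun t => X t n) ht'.symm (z t' n)
      rw [this, map_zero]
    · intro ht
      exact absurd (Finset.mem_univ t) ht

end Pi

section Homology

variable {X₀ X₁ X₂ : N → Type*} [∀ n, AddCommGroup (X₀ n)] [∀ n, AddCommGroup (X₁ n)]
  [∀ n, AddCommGroup (X₂ n)] {Y₀ Y₁ Y₂ : Type*} [AddCommGroup Y₀] [AddCommGroup Y₁] [AddCommGroup Y₂]
  {H : N → Type*} [∀ n, AddCommGroup (H n)] {K : Type*} [AddCommGroup K]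

theorem nonempty_equiv (d₀ : ∀ n, X₀ n →+ X₁ n) (d₁ : ∀ n, X₁ n →+ X₂ n) (e₀ : Y₀ →+ Y₁) (e₁ : Y₁ →+ Y₂)
    (j₀ : ∀ n, X₀ n →+ Y₀) (j₁ : ∀ n, X₁ n →+ Y₁) (j₂ : ∀ n, X₂ n →+ Y₂)
    (h₀ : ∀ n x, j₁ n (d₀ n x) = e₀ (j₀ n x)) (h₁ : ∀ n x, j₂ n (d₁ n x) = e₁ (j₁ n x))
    (D₀ : IsDec j₀) (D₁ : IsDec j₁) (D₂ : IsDec j₂)
    (π : ∀ n, (d₁ n).ker →+ H n) (hπ : ∀ n, Function.Surjective (π n))
    (hπ0 : ∀ n z, π n z = 0 ↔ ∃ y, d₀ n y = z.1)
    (ρ : e₁.ker →+ K) (hρ : Function.Surjective ρ) (hρ0 : ∀ z, ρ z = 0 ↔ ∃ y, e₀ y = z.1) :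
    Nonempty ((⨁ n, H n) ≃+ K) := by
  classical
  let κ₀ : ∀ n, (d₁ n).ker →+ e₁.ker := fun n =>
    { toFun := fun z => ⟨j₁ n z.1, by
        rw [AddMonoidHom.mem_ker, ← h₁, show d₁ n z.1 = 0 from z.2, map_zero]⟩
      map_zero' := Subtype.ext (map_zero (j₁ n))
      map_add' := fun x y => Subtype.ext (map_add (j₁ n) _ _) }
  have hκ : ∀ n, (π n).ker ≤ (ρ.comp (κ₀ n)).ker := by
    intro n z hz
    rw [AddMonoidHom.mem_ker] at hz ⊢
    rw [AddMonoidHom.comp_apply, hρ0]
    obtain ⟨y, hy⟩ := (hπ0 n z).1 hz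
    exact ⟨j₀ n y, by rw [← h₀, hy]; rfl⟩
  let φ : ∀ n, H n →+ K := fun n => (π n).liftOfSurjective (hπ n) ⟨ρ.comp (κ₀ n), hκ n⟩
  have hφ : ∀ n z, φ n (π n z) = ρ (κ₀ n z) := fun n z =>
    AddMonoidHom.liftOfRightInverse_comp_apply _ _ _ ⟨ρ.comp (κ₀ n), hκ n⟩ z
  -- the inclusion
  let ι : ∀ n, (d₁ n).ker →+ X₁ n := fun n => (d₁ n).ker.subtype
  have k1 : ∀ x : ⨁ n, (d₁ n).ker, DirectSum.toAddMonoid φ (DirectSum.map π x) =
      ρ (DirectSum.toAddMonoid κ₀ x) := by
    intro x
    rw [toAddMonoid_map, comp_toAddMonoid]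
    congr 2
    funext n
    exact AddMonoidHom.ext (hφ n)
  have k2 : ∀ x : ⨁ n, (d₁ n).ker, (DirectSum.toAddMonoid κ₀ x).1 =
      DirectSum.toAddMonoid j₁ (DirectSum.map ι x) := by
    intro x
    rw [toAddMonoid_map]
    exact comp_toAddMonoid κ₀ e₁.ker.subtype x
  have hπ' : Function.Surjective (DirectSum.map π) := fun z => by
    choose g hg using fun n => hπ n
    let gg : ∀ n, H n → (d₁ n).ker := fun n a => if a = 0 then 0 else g n a
    let x : ⨁ n, (d₁ n).ker := DFinsupp.mapRange gg (fun n => if_pos rfl) z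
    have hx : ∀ n, x n = gg n (z n) := fun n => DFinsupp.mapRange_apply _ _ _ _
    refine ⟨x, ?_⟩
    refine DFinsupp.ext fun n => ?_
    rw [DirectSum.map_apply, hx]
    change π n (if z n = 0 then 0 else g n (z n)) = z n
    split_ifs with h
    · rw [h, map_zero]
    · exact hg n _
  refine ⟨AddEquiv.ofBijective (DirectSum.toAddMonoid φ) ⟨?_, ?_⟩⟩
  · rw [injective_iff_map_eq_zero]
    intro z hz
    obtain ⟨x, rfl⟩ := hπ' z
    rw [k1, hρ0, k2] at hz
    obtain ⟨y, hy⟩ := hz
    obtain ⟨w, rfl⟩ := D₀.2 y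
    have h2 : DirectSum.toAddMonoid j₁ (DirectSum.map d₀ w) = DirectSum.toAddMonoid j₁ (DirectSum.map ι x) := by
      rw [← hy, toAddMonoid_map, comp_toAddMonoid]
      congr 2
      funext n
      exact AddMonoidHom.ext (h₀ n)
    have h3 := D₁.1 h2
    refine DFinsupp.ext fun n => ?_
    rw [DirectSum.map_apply]
    refine (hπ0 n _).2 ⟨w n, ?_⟩
    have h4 := DFunLike.congr_fun h3 n
    rw [DirectSum.map_apply, DirectSum.map_apply] at h4
    exact h4
  · intro k
    obtain ⟨u, rfl⟩ := hρ k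
    obtain ⟨v, hv⟩ := D₁.2 u.1
    have h2 : DirectSum.map d₁ v = 0 := by
      apply D₂.1
      rw [map_zero, toAddMonoid_map, ← show e₁ u.1 = 0 from u.2, ← hv, comp_toAddMonoid]
      congr 2
      funext n
      exact AddMonoidHom.ext (h₁ n)
    let gg : ∀ n, X₁ n → (d₁ n).ker := fun n a => if h : d₁ n a = 0 then ⟨a, h⟩ else 0
    let x : ⨁ n, (d₁ n).ker := DFinsupp.mapRange gg
        (fun n => by change dite _ _ _ = _; rw [dif_pos (map_zero (d₁ n))]; rfl) v
    have hx' : ∀ n, x n = gg n (v n) := fun n => DFinsupp.mapRange_apply _ _ _ _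
    have hx : DirectSum.map ι x = v := by
      refine DFinsupp.ext fun n => ?_
      rw [DirectSum.map_apply, hx']
      have h3 : d₁ n (v n) = 0 := by
        have h3 := DFunLike.congr_fun h2 n
        rw [DirectSum.map_apply] at h3
        exact h3
      change (d₁ n).ker.subtype (if h : d₁ n (v n) = 0 then ⟨v n, h⟩ else 0) = v n
      rw [dif_pos h3]
      rfl
    refine ⟨DirectSum.map π x, ?_⟩
    rw [k1]
    congr 1
    apply Subtype.ext
    rw [k2, hx, hv]

end Homology

end K38.DSumH
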