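import Groth.Agent.FormalB.GrTildeSect
import Groth.Agent.Koszul3.K38.DSumH

/-!
# The sections of all `M(n)~` over `D_+(f)` and the localization `M_f`

`Ctx f V loc` : `f` is homogeneous of positive degree, `V = D_+(f)` and `loc : M → L` is a localization at the powers
of `f`.  `theta` : the degree `n` fractions `Γ(V, M(n)~) → L`; `isDec_theta` : `L = ⊕_n Γ(V, M(n)~)`.
-/

set_option autoImplicit false
set_option linter.unusedSectionVars false

universe u v

open CategoryTheory AlgebraicGeometry TopologicalSpace Opposite Groth.Agent.FormalB.GrTildeSect DirectSum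

namespace K38.GrTheta

variable {R A : Type u} [CommRing R] [CommRing A] [Algebra R A] {𝒜 : ℕ → Submodule R A} [GradedAlgebra 𝒜]
variable {M : Type u} [AddCommGroup M] [Module R M] [Module A M] {ℳ : ℕ → Submodule R M}
variable {L : Type v} [AddCommGroup L] [Module A L]

/-- `V = D_+(f)`, and `loc` is a localization at the powers of `f`. -/
structure Ctx (d : ℕ) (f : A) (V : Opens (ProjectiveSpectrum.top 𝒜)) (loc : M →ₗ[A] L) : Prop where
  pos : 0 < d
  mem : f ∈ 𝒜 d
  eq : V = ProjectiveSpectrum.basicOpen 𝒜 f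
  bij : Function.Bijective (fun y : L => f • y)
  surj : ∀ y : L, ∃ (k : ℕ) (m : M), f ^ k • y = loc m
  ker : ∀ m : M, loc m = 0 → ∃ k : ℕ, f ^ k • m = 0

theorem pow_bij {f : A} (h : Function.Bijective (fun y : L => f • y)) (k : ℕ) :
    Function.Bijective (fun y : L => f ^ k • y) := by
  induction k with
  | zero =>
    have : (fun y : L => f ^ 0 • y) = id := by funext y; rw [pow_zero, one_smul]; rfl
    rw [this]
    exact Function.bijective_id
  | succ k ih =>
    have : (fun y : L => f ^ (k + 1) • y) = (fun y : L => f ^ k • y) ∘ (fun y : L => f • y) := by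
      funext y
      rw [Function.comp_apply, pow_succ, mul_smul]
    rw [this]
    exact ih.comp h

section Rep

variable [SetLike.GradedSMul 𝒜 ℳ]

/-- `g • s = m / 1` at all points. -/
def Rep {n : ℤ} {V : Opens (ProjectiveSpectrum.top 𝒜)} (s : GrTilde.sect 𝒜 ℳ n (op V)) (g : A) (m : M) : Prop :=
  ∀ x : V, (g • (s.1 x).1 : GrTilde.LocMod 𝒜 (M := M) x.1) = LocalizedModule.mk m 1

theorem Rep.smul {n : ℤ} {V : Opens (ProjectiveSpectrum.top 𝒜)} {s : GrTilde.sect 𝒜 ℳ n (op V)} {g : A} {m : M}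
    (h : Rep s g m) (a : A) : Rep s (a * g) (a • m) := fun x => by
  rw [mul_smul, h x, LocalizedModule.smul'_mk]

theorem Rep.add {n : ℤ} {V : Opens (ProjectiveSpectrum.top 𝒜)} {s t : GrTilde.sect 𝒜 ℳ n (op V)} {g : A} {m m' : M}
    (h : Rep s g m) (h' : Rep t g m') : Rep (s + t) g (m + m') := fun x => by
  have e : ((s + t).1 x).1 = (s.1 x).1 + (t.1 x).1 := rfl
  rw [e, smul_add, h x, h' x, LocalizedModule.mk_add_mk, one_smul, one_smul, one_mul]

theorem Rep.restrict {n : ℤ} {V V' : Opens (ProjectiveSpectrum.top 𝒜)} {s : GrTilde.sect 𝒜 ℳ n (op V)} {g : A}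
    {m : M} (h : Rep s g m) (i : op V ⟶ op V') : Rep (GrTilde.res 𝒜 ℳ n i s) g m := fun x => h (i.unop x)

theorem rep_of_frac {n : ℤ} {V : Opens (ProjectiveSpectrum.top 𝒜)} {s : GrTilde.sect 𝒜 ℳ n (op V)} {g : A} {m : M}
    (hg : ∀ x : V, g ∉ x.1.asHomogeneousIdeal)
    (h : ∀ x : V, (s.1 x).1 = LocalizedModule.mk m ⟨g, hg x⟩) : Rep s g m := fun x => by
  rw [h x, LocalizedModule.smul'_mk]
  exact LocalizedModule.mk_cancel ⟨g, hg x⟩ m

theorem eq_zero_of_rep {n : ℤ} {V : Opens (ProjectiveSpectrum.top 𝒜)} {s : GrTilde.sect 𝒜 ℳ n (op V)} {g : A}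
    (hg : ∀ x : V, g ∉ x.1.asHomogeneousIdeal) (h : Rep s g 0) : s = 0 := by
  refine sect_ext fun x => ?_
  have h1 := h x
  rw [LocalizedModule.zero_mk] at h1
  have h2 : ∀ q : GrTilde.LocMod 𝒜 (M := M) x.1, g • q = 0 → q = 0 := by
    intro q hq
    induction q using LocalizedModule.induction_on with
    | _ m t =>
      rw [LocalizedModule.smul'_mk, ← LocalizedModule.zero_mk t, LocalizedModule.mk_eq] at hq
      obtain ⟨c, hc⟩ := hq
      rw [← LocalizedModule.zero_mk t, LocalizedModule.mk_eq]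
      refine ⟨c * ⟨g, hg x⟩, ?_⟩
      rw [smul_zero, smul_zero] at hc ⊢
      rw [mul_smul, smul_comm (⟨g, hg x⟩ : x.1.asHomogeneousIdeal.toIdeal.primeCompl)]
      exact hc
  exact h2 _ h1

end Rep

variable [SetLike.GradedSMul 𝒜 ℳ] [DirectSum.Decomposition ℳ]
variable {d : ℕ} {f : A} {V : Opens (ProjectiveSpectrum.top 𝒜)} {loc : M →ₗ[A] L} (C : Ctx d f V loc)

include C

theorem notMem (x : V) : f ∉ x.1.asHomogeneousIdeal := by
  obtain ⟨x, hx⟩ := x
  rw [C.eq] at hx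
  exact hx

theorem exists_rep {n : ℤ} (s : GrTilde.sect 𝒜 ℳ n (op V)) : ∃ (k : ℕ) (m : M),
    m ∈ zdeg ℳ (((k * d : ℕ) : ℤ) + n) ∧ Rep s (f ^ k) m := by
  obtain ⟨h1, h2, rfl, -, -, -⟩ := C
  obtain ⟨k, m, hm, h⟩ := exists_frac_basicOpen n h1 h2 s
  exact ⟨k, m, hm, rep_of_frac _ h⟩

theorem pow_mem (k : ℕ) : f ^ k ∈ 𝒜 (k * d) := by
  simpa [smul_eq_mul] using SetLike.pow_mem_graded k C.mem

theorem cancel {k : ℕ} {y z : L} (h : f ^ k • y = f ^ k • z) : y = z := (pow_bij C.bij k).1 h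

theorem loc_eq_of_pow {k : ℕ} {m m' : M} (h : f ^ k • m = f ^ k • m') : loc m = loc m' := by
  apply cancel C (k := k)
  rw [← map_smul, ← map_smul, h]

theorem rep_unique {n : ℤ} {s : GrTilde.sect 𝒜 ℳ n (op V)} {j j' : ℕ} {g g' : A} {m m' : M}
    (hg : g ∈ 𝒜 j) (hg' : g' ∈ 𝒜 j') (hm : m ∈ zdeg ℳ (j + n)) (hm' : m' ∈ zdeg ℳ (j' + n))
    (h : Rep s g m) (h' : Rep s g' m') : g' • loc m = g • loc m' := by
  obtain ⟨N, hN⟩ := exists_pow_smul_eq_zero 𝒜 (ℳ := ℳ) (k := (j : ℤ) + j' + n) C.pos C.mem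
    (m := g' • m - g • m') (sub_mem (smul_mem_zdeg_of_eq 𝒜 hg' hm (by ring)) (smul_mem_zdeg_of_eq 𝒜 hg hm' (by ring)))
    (fun x hx => by
      have hxV : x ∈ V := by rw [C.eq]; exact hx
      have e1 := (h.smul g') ⟨x, hxV⟩
      have e2 := (h'.smul g) ⟨x, hxV⟩
      rw [mul_comm] at e1
      obtain ⟨u, hu⟩ := LocalizedModule.mk_eq.mp (e1.symm.trans e2)
      refine ⟨u.1, u.2, ?_⟩
      rw [one_smul, one_smul] at hu
      rw [smul_sub, sub_eq_zero]
      exact hu)
  rw [← map_smul, ← map_smul]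
  apply loc_eq_of_pow C (k := N)
  rw [smul_sub, sub_eq_zero] at hN
  exact hN

/-- The image of a section in `L`. -/
noncomputable def thetaFun {n : ℤ} (s : GrTilde.sect 𝒜 ℳ n (op V)) : L :=
  ((pow_bij C.bij (exists_rep C s).choose).2 (loc (exists_rep C s).choose_spec.choose)).choose

theorem thetaFun_spec {n : ℤ} (s : GrTilde.sect 𝒜 ℳ n (op V)) {j : ℕ} {g : A} {m : M}
    (hg : g ∈ 𝒜 j) (hm : m ∈ zdeg ℳ (j + n)) (h : Rep s g m) : g • thetaFun C s = loc m := by
  have h1 := ((pow_bij C.bij (exists_rep C s).choose).2 (loc (exists_rep C s).choose_spec.choose)).choose_spec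
  have h2 := (exists_rep C s).choose_spec.choose_spec
  apply cancel C (k := (exists_rep C s).choose)
  rw [smul_comm]
  refine (congrArg (g • ·) h1).trans ?_
  exact rep_unique C (pow_mem C _) hg h2.1 hm h2.2 h

theorem thetaFun_eq {n : ℤ} (s : GrTilde.sect 𝒜 ℳ n (op V)) {k : ℕ} {m : M} {y : L}
    (hm : m ∈ zdeg ℳ (((k * d : ℕ) : ℤ) + n)) (h : Rep s (f ^ k) m) (hy : f ^ k • y = loc m) :
    thetaFun C s = y :=
  cancel C (k := k) ((thetaFun_spec C s (pow_mem C k) hm h).trans hy.symm)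

theorem Rep.pow_add {n : ℤ} {s : GrTilde.sect 𝒜 ℳ n (op V)} {k : ℕ} {m : M}
    (hm : m ∈ zdeg ℳ (((k * d : ℕ) : ℤ) + n)) (h : Rep s (f ^ k) m) (l : ℕ) :
    f ^ l • m ∈ zdeg ℳ ((((l + k) * d : ℕ) : ℤ) + n) ∧ Rep s (f ^ (l + k)) (f ^ l • m) := by
  refine ⟨smul_mem_zdeg_of_eq 𝒜 (pow_mem C l) hm (by push_cast; ring), ?_⟩
  rw [_root_.pow_add]
  exact h.smul _

/-- The image of sections in `L`, additive. -/
noncomputable def theta (n : ℤ) : GrTilde.sect 𝒜 ℳ n (op V) →+ L where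
  toFun s := thetaFun C s
  map_zero' := thetaFun_eq C 0 (k := 0) (m := 0) (zero_mem _) (fun x => by
    rw [LocalizedModule.zero_mk]
    exact smul_zero _) (by rw [map_zero, smul_zero])
  map_add' s t := by
    obtain ⟨k, m, hm, h⟩ := exists_rep C s
    obtain ⟨k', m', hm', h'⟩ := exists_rep C t
    obtain ⟨hm1, h1⟩ := Rep.pow_add C hm h k'
    obtain ⟨hm2, h2⟩ := Rep.pow_add C hm' h' k
    rw [add_comm k k'] at hm2 h2
    refine thetaFun_eq C (s + t) (k := k' + k) (add_mem hm1 hm2) (h1.add h2) ?_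
    rw [smul_add, map_add, thetaFun_spec C s (pow_mem C _) hm1 h1, thetaFun_spec C t (pow_mem C _) hm2 h2]

theorem theta_spec {n : ℤ} (s : GrTilde.sect 𝒜 ℳ n (op V)) {j : ℕ} {g : A} {m : M}
    (hg : g ∈ 𝒜 j) (hm : m ∈ zdeg ℳ (j + n)) (h : Rep s g m) : g • theta C n s = loc m :=
  thetaFun_spec C s hg hm h

theorem theta_eq {n : ℤ} (s : GrTilde.sect 𝒜 ℳ n (op V)) {k : ℕ} {m : M} {y : L}
    (hm : m ∈ zdeg ℳ (((k * d : ℕ) : ℤ) + n)) (h : Rep s (f ^ k) m) (hy : f ^ k • y = loc m) :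
    theta C n s = y := thetaFun_eq C s hm h hy

/-- A common denominator for finitely many sections. -/
theorem exists_common (z : ∀ n : ℤ, GrTilde.sect 𝒜 ℳ n (op V)) (S : Finset ℤ) : ∃ (k : ℕ) (m : ℤ → M),
    ∀ n ∈ S, m n ∈ zdeg ℳ (((k * d : ℕ) : ℤ) + n) ∧ Rep (z n) (f ^ k) (m n) := by
  classical
  choose k m hm h using fun n => exists_rep C (z n)
  refine ⟨S.sup k, fun n => f ^ (S.sup k - k n) • m n, fun n hn => ?_⟩
  have := Rep.pow_add C (hm n) (h n) (S.sup k - k n)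
  rwa [Nat.sub_add_cancel (Finset.le_sup (f := k) hn)] at this

theorem sum_zdeg_eq_zero {s : Finset ℤ} {c : ℤ} {m : ℤ → M} (hm : ∀ n ∈ s, m n ∈ zdeg ℳ (c + n))
    (h : ∑ n ∈ s, m n = 0) : ∀ n ∈ s, m n = 0 := by
  classical
  intro n hn
  rcases mem_zdeg_iff.1 (hm n hn) with ⟨i, hi, hmi⟩ | h0
  · have h1 := congrArg (fun x => (DirectSum.decompose ℳ x i : M)) h
    simp only at h1
    rw [DirectSum.decompose_sum, DFinsupp.finsetSum_apply, AddSubmonoidClass.coe_finsetSum,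
      Finset.sum_eq_single n, DirectSum.decompose_of_mem_same ℳ hmi, DirectSum.decompose_zero] at h1
    · exact h1
    · intro l hl hln
      rcases mem_zdeg_iff.1 (hm l hl) with ⟨i', hi', hmi'⟩ | h0
      · exact DirectSum.decompose_of_mem_ne ℳ hmi' (by
          rintro rfl
          apply hln
          omega)
      · rw [h0, DirectSum.decompose_zero]
        rfl
    · intro h2
      exact absurd hn h2
  · exact h0

theorem isDec_theta : K38.DSumH.IsDec (fun n : ℤ => theta C (ℳ := ℳ) n) := by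
  classical
  constructor
  · rw [injective_iff_map_eq_zero]
    intro z hz
    obtain ⟨k, m, hkm⟩ := exists_common C (fun n => z n) z.support
    have e1 : DirectSum.toAddMonoid (fun n : ℤ => theta C (ℳ := ℳ) n) z = ∑ n ∈ z.support, theta C n (z n) := by
      rw [DirectSum.toAddMonoid, DFinsupp.liftAddHom_apply, DFinsupp.sumAddHom_apply]
      rfl
    have e2 : loc (∑ n ∈ z.support, m n) = 0 := by
      rw [map_sum]
      have : ∀ n ∈ z.support, loc (m n) = f ^ k • theta C n (z n) := fun n hn =>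
        (theta_spec C (z n) (pow_mem C k) (hkm n hn).1 (hkm n hn).2).symm
      rw [Finset.sum_congr rfl this, ← Finset.smul_sum, ← e1, hz, smul_zero]
    obtain ⟨N, hN⟩ := C.ker _ e2
    rw [Finset.smul_sum] at hN
    have e3 := sum_zdeg_eq_zero C (c := (((N + k) * d : ℕ) : ℤ)) (m := fun n => f ^ N • m n)
      (fun n hn => (Rep.pow_add C (hkm n hn).1 (hkm n hn).2 N).1) hN
    refine DFinsupp.ext fun n => ?_
    by_cases hn : n ∈ z.support
    · have e4 := (Rep.pow_add C (hkm n hn).1 (hkm n hn).2 N).2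
      rw [show f ^ N • m n = 0 from e3 n hn] at e4
      exact eq_zero_of_rep (fun x => pow_notMem (notMem C x) _) e4
    · exact DFinsupp.notMem_support_iff.1 hn
  · intro y
    obtain ⟨k, m, hkm⟩ := C.surj y
    let m' : ℕ → M := fun i => (DirectSum.decompose ℳ m i : M)
    have hm' : ∀ i : ℕ, m' i ∈ zdeg ℳ (((k * d : ℕ) : ℤ) + ((i : ℤ) - ((k * d : ℕ) : ℤ))) := fun i =>
      mem_zdeg_of_eq (i := i) (by ring) (SetLike.coe_mem _)
    let s : ∀ i : ℕ, GrTilde.sect 𝒜 ℳ ((i : ℤ) - ((k * d : ℕ) : ℤ)) (op V) := fun i =>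
      frac _ V (pow_mem C k) (fun x hx => pow_notMem (notMem C ⟨x, hx⟩) k) (hm' i)
    refine ⟨∑ i ∈ (DirectSum.decompose ℳ m).support, DirectSum.of (fun n : ℤ => GrTilde.sect 𝒜 ℳ n (op V)) _ (s i), ?_⟩
    rw [map_sum]
    apply cancel C (k := k)
    have hm0 : loc m = ∑ i ∈ (DirectSum.decompose ℳ m).support, loc (m' i) := by
      rw [← map_sum]
      congr 1
      exact (DirectSum.sum_support_decompose ℳ m).symm
    rw [hkm, Finset.smul_sum, hm0]
    have key : ∀ i : ℕ, f ^ k • (DirectSum.toAddMonoid (fun n : ℤ => theta C (ℳ := ℳ) n))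
        (DirectSum.of (fun n : ℤ => GrTilde.sect 𝒜 ℳ n (op V)) _ (s i)) = loc (m' i) := fun i => by
      rw [DirectSum.toAddMonoid_of]
      exact theta_spec C (s i) (pow_mem C k) (hm' i)
        (rep_of_frac (fun x => pow_notMem (notMem C x) k) fun x => rfl)
    exact Finset.sum_congr rfl fun i _ => key i

omit C in
/-- Compatibility with restriction. -/
theorem theta_res {d' : ℕ} {f' : A} {V' : Opens (ProjectiveSpectrum.top 𝒜)} {L' : Type v} [AddCommGroup L']
    [Module A L'] {loc' : M →ₗ[A] L'} (C : Ctx d f V loc) (C' : Ctx d' f' V' loc') (i : op V ⟶ op V')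
    (r : L →ₗ[A] L') (hr : ∀ m, r (loc m) = loc' m) (hf : Function.Injective (fun y : L' => f • y)) {n : ℤ}
    (s : GrTilde.sect 𝒜 ℳ n (op V)) : theta C' n (GrTilde.res 𝒜 ℳ n i s) = r (theta C n s) := by
  obtain ⟨k, m, hm, h⟩ := exists_rep C s
  have h1 := theta_spec C s (pow_mem C k) hm h
  have h2 := theta_spec C' (GrTilde.res 𝒜 ℳ n i s) (pow_mem C k) hm (h.restrict i)
  have hfk : Function.Injective (fun y : L' => f ^ k • y) := by
    clear h1 h2 h hm
    induction k with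
    | zero => intro a b hab; simpa using hab
    | succ k ih =>
      intro a b hab
      apply hf
      apply ih
      simp only [pow_succ, mul_smul] at hab
      exact hab
  apply hfk
  change f ^ k • _ = f ^ k • _
  rw [h2, ← map_smul, h1, hr]

end K38.GrTheta
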