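import Groth.Agent.Koszul3.K38.GrTheta
import Groth.Agent.LocCohZ.K288.KosSpec
import Groth.Agent.Ega2.H261.TildeQCoh

/-!
# Čech cohomology of the `M(n)~` on a union of basic opens of `Proj` and Koszul cohomology
-/

set_option autoImplicit false
set_option linter.unusedSectionVars false

universe u

open CategoryTheory AlgebraicGeometry TopologicalSpace Opposite Groth.Agent.FormalB.GrTildeSect DirectSum
open Groth.Agent.Ega3A.ExtCech (res res_res)
open Groth.Agent.CohqA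

namespace K38.ProjKos

section Lattice

theorem prod_eq_iInf {A P : Type*} [CommMonoid A] [CompleteLattice P] (D : A → P)
    (hD : ∀ a b, D (a * b) = D a ⊓ D b) (q : ℕ) (g : Fin (q + 1) → A) :
    D (∏ a, g a) = ⨅ a, D (g a) := by
  induction q with
  | zero =>
    rw [Fin.prod_univ_succ, Fin.prod_univ_zero, mul_one]
    exact le_antisymm (le_iInf fun k => le_of_eq (by rw [show k = 0 from Fin.fin_one_eq_zero k]))
      (iInf_le _ 0)
  | succ q ih =>
    rw [Fin.prod_univ_succ, hD, ih]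
    refine le_antisymm (le_iInf fun k => ?_) (le_inf (iInf_le _ 0) (le_iInf fun k => iInf_le _ k.succ))
    refine Fin.cases ?_ (fun k => ?_) k
    · exact inf_le_left
    · exact inf_le_right.trans (iInf_le _ k)

end Lattice

section Spec

variable (A : Type u) [CommRing A] (M : Type u) [AddCommGroup M] [Module A M]

/-- Sections of `M~` over the opens of `Spec A` as modules over `A`. -/
noncomputable abbrev FM : ((Spec (CommRingCat.of A)).Opens)ᵒᵖ ⥤ ModuleCat.{u} A :=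
  K288.KosAff.secA (K288.KosSpec.φ A) (K288.KosSpec.Mt A M)

/-- The map from `M` to the sections over `W`. -/
noncomputable def loc (W : (Spec (CommRingCat.of A)).Opens) : M →ₗ[A] (FM A M).obj (op W) :=
  (res (FM A M) le_top).comp (K288.KosSpec.eN A M).hom.hom

theorem res_loc {V W : (Spec (CommRingCat.of A)).Opens} (h : V ≤ W) (m : M) :
    res (FM A M) h (loc A M W m) = loc A M V m := res_res (FM A M) h le_top _

/-- The open `D(f)`. -/
noncomputable abbrev DS (f : A) : (Spec (CommRingCat.of A)).Opens :=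
  (Spec (CommRingCat.of A)).basicOpen (K288.KosSpec.φ A f)

theorem DS_mul (a b : A) : DS A (a * b) = DS A a ⊓ DS A b := by
  rw [DS, map_mul, Scheme.basicOpen_mul]

theorem bij {f : A} {W : (Spec (CommRingCat.of A)).Opens} (h : W ≤ DS A f) :
    Function.Bijective (fun y : (FM A M).obj (op W) => f • y) :=
  K288.KosAff.goodA (K288.KosSpec.φ A) (K288.KosSpec.Mt A M) f trivial W h

theorem eN_surj (y : (FM A M).obj (op ⊤)) : ∃ m : M, (K288.KosSpec.eN A M).hom.hom m = y :=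
  ⟨(K288.KosSpec.eN A M).inv.hom y, by
    rw [← LinearMap.comp_apply, ← ModuleCat.hom_comp, Iso.inv_hom_id]
    rfl⟩

theorem eN_inj (m : M) (h : (K288.KosSpec.eN A M).hom.hom m = 0) : m = 0 := by
  have h1 : (K288.KosSpec.eN A M).inv.hom ((K288.KosSpec.eN A M).hom.hom m) = m := by
    rw [← LinearMap.comp_apply, ← ModuleCat.hom_comp, Iso.hom_inv_id]
    rfl
  rw [← h1, h, map_zero]

theorem surj {f : A} {W : (Spec (CommRingCat.of A)).Opens} (h : W = DS A f) (y : (FM A M).obj (op W)) :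
    ∃ (k : ℕ) (m : M), f ^ k • y = loc A M W m := by
  obtain ⟨𝒲, h1, h2, h3⟩ := K288.KosAff.isLocA (K288.KosSpec.φ A) (K288.KosSpec.Mt A M) inferInstance
  have hW : DS A f ⊓ ⊤ ≤ W := by rw [h]; exact inf_le_left
  have hW' : W ≤ DS A f ⊓ ⊤ := by rw [h, inf_top_eq]
  obtain ⟨k, z, hz⟩ := (h3 ⊤ h1 f trivial).1 (res (FM A M) hW y)
  obtain ⟨m, rfl⟩ := eN_surj A M z
  refine ⟨k, m, ?_⟩
  have h4 := congrArg (res (FM A M) hW') hz
  rw [map_smul, res_res, res_res, Groth.Agent.Ega3A.ExtCech.res_self] at h4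
  exact h4.symm

theorem ker {f : A} {W : (Spec (CommRingCat.of A)).Opens} (h : W = DS A f) (m : M) (hm : loc A M W m = 0) :
    ∃ k : ℕ, f ^ k • m = 0 := by
  obtain ⟨𝒲, h1, h2, h3⟩ := K288.KosAff.isLocA (K288.KosSpec.φ A) (K288.KosSpec.Mt A M) inferInstance
  have hW : DS A f ⊓ ⊤ ≤ W := by rw [h]; exact inf_le_left
  obtain ⟨k, hk⟩ := (h3 ⊤ h1 f trivial).2 ((K288.KosSpec.eN A M).hom.hom m) (by
    have h4 := congrArg (res (FM A M) hW) hm
    rw [map_zero] at h4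
    exact (res_res (FM A M) hW le_top _).symm.trans h4)
  refine ⟨k, eN_inj A M _ ?_⟩
  rw [map_smul]
  exact hk

end Spec

section CechH

variable {X : TopCat.{u}} {ι : Type u} (U : ι → Opens X) (F : TopCat.Presheaf AddCommGrpCat.{u} X)

theorem cech_homology' (p : ℕ) :
    ∃ π : (CechBasic.dC U F (p + 1)).ker →+ CohB1.cechHTop U F (p + 1), Function.Surjective π ∧
      ∀ z, π z = 0 ↔ ∃ y, CechBasic.dC U F p y = z.1 := by
  obtain ⟨π, h1, h2⟩ := Groth.Agent.Ega3A.CechLink.cech_homology U F p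
  have key : ∀ (n : ℕ) (x : CechBasic.Cochain U F n),
      CechBasic.CXd U F n ((CechBasic.equivX U F n).symm x) =
        (CechBasic.equivX U F (n + 1)).symm (CechBasic.dC U F n x) := by
    intro n x
    apply (CechBasic.equivX U F (n + 1)).injective
    rw [CechBasic.equivX_CXd, AddEquiv.apply_symm_apply, AddEquiv.apply_symm_apply]
  let ε : (CechBasic.dC U F (p + 1)).ker →+ (CechBasic.CXd U F (p + 1)).hom.ker :=
    { toFun := fun z => ⟨(CechBasic.equivX U F (p + 1)).symm z.1, by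
        rw [AddMonoidHom.mem_ker]
        refine (key (p + 1) z.1).trans ?_
        rw [show CechBasic.dC U F (p + 1) z.1 = 0 from z.2, map_zero]⟩
      map_zero' := Subtype.ext (map_zero (CechBasic.equivX U F (p + 1)).symm)
      map_add' := fun x y => Subtype.ext (map_add (CechBasic.equivX U F (p + 1)).symm _ _) }
  refine ⟨π.comp ε, ?_, ?_⟩
  · intro x
    obtain ⟨z, rfl⟩ := h1 x
    refine ⟨⟨CechBasic.equivX U F (p + 1) z.1, ?_⟩, ?_⟩
    · rw [AddMonoidHom.mem_ker, ← CechBasic.equivX_CXd]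
      have : CechBasic.CXd U F (p + 1) z.1 = 0 := z.2
      rw [this, map_zero]
    · rw [AddMonoidHom.comp_apply]
      congr 1
      exact Subtype.ext (AddEquiv.symm_apply_apply _ _)
  · intro z
    rw [AddMonoidHom.comp_apply, h2]
    constructor
    · rintro ⟨y, hy⟩
      refine ⟨CechBasic.equivX U F p y, ?_⟩
      rw [← CechBasic.equivX_CXd]
      have : CechBasic.CXd U F p y = (CechBasic.equivX U F (p + 1)).symm z.1 := hy
      rw [this, AddEquiv.apply_symm_apply]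
    · rintro ⟨y, hy⟩
      refine ⟨(CechBasic.equivX U F p).symm y, ?_⟩
      refine (key p y).trans ?_
      rw [hy]
      rfl

end CechH

/-- The cohomology of a quasi-coherent module over a union of opens with affine intersections. -/
theorem HHon_cech {X : Scheme.{u}} (M : X.Modules) [Coh.IsQCoh M] {ι : Type u} (U : ι → X.Opens)
    (h : ∀ (q : ℕ) (a : Fin (q + 1) → ι), IsAffineOpen (⨅ k, U (a k))) (V : X.Opens) (hV : iSup U = V) (p : ℕ) :
    Nonempty (Coh.HHon X M V p ≃+ CohB1.cechHTop U M.presheaf p) := by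
  subst hV
  obtain ⟨e2⟩ := Groth.Agent.S0464.result (X := X.toTopCat) (Coh.toAb M) U
    (fun q a l => K288.KosAff.subsingleton_HU M _ (h q a) l) p
  obtain ⟨e3⟩ := Groth.Agent.S0463.result (X := X.toTopCat) (Coh.toAb M) (iSup U) p
  exact ⟨e3.symm.trans e2.symm⟩

section Main

variable {R A : Type u} [CommRing R] [CommRing A] [Algebra R A] (𝒜 : ℕ → Submodule R A) [GradedAlgebra 𝒜]
variable {M : Type u} [AddCommGroup M] [Module R M] [Module A M] (ℳ : ℕ → Submodule R M)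
  [SetLike.GradedSMul 𝒜 ℳ] [DirectSum.Decomposition ℳ]
variable (fs : List A) 

/-- The opens `D_+(f_i)`. -/
noncomputable abbrev UP (i : ULift.{u} (Fin fs.length)) : (Proj 𝒜).Opens := Proj.basicOpen 𝒜 (fs.get i.down)

/-- The opens `D(f_i)`. -/
noncomputable abbrev US (i : ULift.{u} (Fin fs.length)) : (Spec (CommRingCat.of A)).Opens :=
  K288.KosAff.fa (K288.KosSpec.φ A) fs i.down

/-- The product of the functions of a tuple. -/
noncomputable def pr {q : ℕ} (i : Fin (q + 1) → ULift.{u} (Fin fs.length)) : A := ∏ a, fs.get (i a).down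

theorem UP_eq {q : ℕ} (i : Fin (q + 1) → ULift.{u} (Fin fs.length)) :
    (⨅ a, UP 𝒜 fs (i a)) = Proj.basicOpen 𝒜 (pr fs i) :=
  (prod_eq_iInf (P := (Proj 𝒜).Opens) (fun f => Proj.basicOpen 𝒜 f) (fun a b => Proj.basicOpen_mul 𝒜 a b) q _).symm

theorem US_eq {q : ℕ} (i : Fin (q + 1) → ULift.{u} (Fin fs.length)) :
    (⨅ a, US fs (i a)) = DS A (pr fs i) :=
  (prod_eq_iInf (P := (Spec (CommRingCat.of A)).Opens) (DS A) (DS_mul A) q _).symm

variable {fs} (dg : Fin fs.length → ℕ) (hdg : ∀ i, 0 < dg i ∧ fs.get i ∈ 𝒜 (dg i))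

include hdg in
theorem ctx {q : ℕ} (i : Fin (q + 1) → ULift.{u} (Fin fs.length)) :
    K38.GrTheta.Ctx (𝒜 := 𝒜) (∑ a, dg (i a).down) (pr fs i) (⨅ a, UP 𝒜 fs (i a))
      (loc A M (⨅ a, US fs (i a))) where
  pos := Finset.sum_pos (fun a _ => (hdg _).1) Finset.univ_nonempty
  mem := SetLike.prod_mem_graded 𝒜 _ _ fun a _ => (hdg _).2
  eq := UP_eq 𝒜 fs i
  bij := bij A M (US_eq fs i).le
  surj := surj A M (US_eq fs i)
  ker := ker A M (US_eq fs i)

/-- The comparison of the sections over the intersections. -/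
noncomputable def tht (n : ℤ) {q : ℕ} (i : Fin (q + 1) → ULift.{u} (Fin fs.length)) :
    (GrTilde.tilde 𝒜 ℳ n).presheaf.obj (op (⨅ a, UP 𝒜 fs (i a))) →+
      (K288.KosSpec.Mt A M).presheaf.obj (op (⨅ a, US fs (i a))) :=
  K38.GrTheta.theta (ctx 𝒜 (M := M) dg hdg i) n

theorem isDec_tht {q : ℕ} (i : Fin (q + 1) → ULift.{u} (Fin fs.length)) :
    K38.DSumH.IsDec (fun n : ℤ => tht 𝒜 ℳ dg hdg n i) :=
  K38.GrTheta.isDec_theta (ctx 𝒜 (M := M) dg hdg i)

/-- The comparison of cochains. -/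
noncomputable def jj (q : ℕ) (n : ℤ) : CechBasic.Cochain (UP 𝒜 fs) (GrTilde.tilde 𝒜 ℳ n).presheaf q →+
    CechBasic.Cochain (US fs) (K288.KosSpec.Mt A M).presheaf q :=
  K38.DSumH.piHom (fun (i : Fin (q + 1) → ULift.{u} (Fin fs.length)) (n : ℤ) => tht 𝒜 ℳ dg hdg n i) n

theorem isDec_jj (q : ℕ) : K38.DSumH.IsDec (jj 𝒜 ℳ dg hdg q) :=
  K38.DSumH.isDec_pi _ (fun i => isDec_tht 𝒜 ℳ dg hdg i)

theorem pr_le {q : ℕ} (i : Fin (q + 2) → ULift.{u} (Fin fs.length)) (j : Fin (q + 2)) :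
    (⨅ a, US fs (i a)) ≤ DS A (pr fs (i ∘ j.succAbove)) :=
  (CechBasic.le_face (US fs) i j).trans (US_eq fs (i ∘ j.succAbove)).le

theorem jj_d (q : ℕ) (n : ℤ) (x : CechBasic.Cochain (UP 𝒜 fs) (GrTilde.tilde 𝒜 ℳ n).presheaf q) :
    jj 𝒜 ℳ dg hdg (q + 1) n (CechBasic.dC _ _ q x) = CechBasic.dC _ _ q (jj 𝒜 ℳ dg hdg q n x) := by
  funext i
  refine Eq.trans (b := tht 𝒜 ℳ dg hdg n i (CechBasic.dC _ _ q x i)) rfl ?_
  rw [CechBasic.dC_apply, CechBasic.dC_apply, map_sum]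
  refine Finset.sum_congr rfl fun j _ => ?_
  rw [map_zsmul]
  congr 1
  exact K38.GrTheta.theta_res (ctx 𝒜 (M := M) dg hdg (i ∘ j.succAbove)) (ctx 𝒜 (M := M) dg hdg i)
    (homOfLE (CechBasic.le_face (UP 𝒜 fs) i j)).op
    (res (FM A M) (CechBasic.le_face (US fs) i j)) (res_loc A M _)
    (bij A M (pr_le i j)).1 (x (i ∘ j.succAbove))

include hdg in
theorem nonempty_cech (p : ℕ) : Nonempty ((⨁ n : ℤ, CohB1.cechHTop (UP 𝒜 fs) (GrTilde.tilde 𝒜 ℳ n).presheaf (p + 1)) ≃+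
    CohB1.cechHTop (US fs) (K288.KosSpec.Mt A M).presheaf (p + 1)) := by
  choose π hπ hπ0 using fun n : ℤ => cech_homology' (UP 𝒜 fs) (GrTilde.tilde 𝒜 ℳ n).presheaf p
  obtain ⟨ρ, hρ, hρ0⟩ := cech_homology' (US fs) (K288.KosSpec.Mt A M).presheaf p
  exact K38.DSumH.nonempty_equiv
    (fun n : ℤ => CechBasic.dC (UP 𝒜 fs) (GrTilde.tilde 𝒜 ℳ n).presheaf p)
    (fun n : ℤ => CechBasic.dC (UP 𝒜 fs) (GrTilde.tilde 𝒜 ℳ n).presheaf (p + 1))
    (CechBasic.dC (US fs) (K288.KosSpec.Mt A M).presheaf p)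
    (CechBasic.dC (US fs) (K288.KosSpec.Mt A M).presheaf (p + 1))
    (jj 𝒜 ℳ dg hdg p) (jj 𝒜 ℳ dg hdg (p + 1)) (jj 𝒜 ℳ dg hdg (p + 1 + 1))
    (fun n x => jj_d 𝒜 ℳ dg hdg p n x) (fun n x => jj_d 𝒜 ℳ dg hdg (p + 1) n x)
    (isDec_jj 𝒜 ℳ dg hdg p) (isDec_jj 𝒜 ℳ dg hdg (p + 1)) (isDec_jj 𝒜 ℳ dg hdg (p + 1 + 1))
    π hπ hπ0 ρ hρ hρ0

include hdg in
theorem nonempty_HHon (n : ℤ) (p : ℕ) : Nonempty (Coh.HHon (Proj 𝒜) (GrTilde.tilde 𝒜 ℳ n)
      (⨆ i : Fin fs.length, Proj.basicOpen 𝒜 (fs.get i)) p ≃+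
    CohB1.cechHTop (UP 𝒜 fs) (GrTilde.tilde 𝒜 ℳ n).presheaf p) := by
  have := Groth.Agent.Ega2.H261.TildeQCoh.isQCoh_tilde (𝒜 := 𝒜) (ℳ := ℳ) n
  have h1 : ∀ (q : ℕ) (a : Fin (q + 1) → ULift.{u} (Fin fs.length)), IsAffineOpen (⨅ k, UP 𝒜 fs (a k)) := by
    intro q a
    rw [UP_eq 𝒜 fs a]
    exact Proj.isAffineOpen_basicOpen 𝒜 _ (SetLike.prod_mem_graded 𝒜 _ _ fun b _ => (hdg (a b).down).2)
        (Finset.sum_pos (fun b _ => (hdg (a b).down).1) Finset.univ_nonempty)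
  have h2 : iSup (UP 𝒜 fs) = ⨆ i : Fin fs.length, Proj.basicOpen 𝒜 (fs.get i) :=
    le_antisymm (iSup_le fun i => le_iSup (fun i => Proj.basicOpen 𝒜 (fs.get i)) i.down)
      (iSup_le fun i => le_iSup (fun i : ULift.{u} (Fin fs.length) => UP 𝒜 fs i) ⟨i⟩)
  exact HHon_cech (GrTilde.tilde 𝒜 ℳ n) (UP 𝒜 fs) h1 _ h2 p

include hdg in
theorem main (p : ℕ) : Nonempty (DirectSum ℤ (fun n : ℤ => Coh.HHon (Proj 𝒜) (GrTilde.tilde 𝒜 ℳ n)
        (⨆ i : Fin fs.length, Proj.basicOpen 𝒜 (fs.get i)) (p + 1)) ≃+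
      CohIII.koszulHLim fs (ModuleCat.of A M) (p + 1 + 1)) := by
  classical
  have e := fun n : ℤ => (nonempty_HHon 𝒜 ℳ dg hdg n (p + 1)).some
  obtain ⟨e1⟩ := nonempty_cech 𝒜 ℳ dg hdg p
  obtain ⟨e2⟩ := K288.KosAff.hlim_cech (X := Spec (CommRingCat.of A)) (K288.KosSpec.φ A) (K288.KosSpec.Mt A M) fs _
    (K288.KosSpec.eN A M) p
  exact ⟨(DFinsupp.mapRange.addEquiv e).trans (e1.trans e2.symm)⟩

end Main

end K38.ProjKos
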